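import Cfsg.Agent.H97.Refl3.Basic

/-!
Fischer's theorem: the projective reflection groups over the field with three elements are groups
generated by a class of 3-transpositions without solvable normal subgroups, and the third member
of a triangle is the only further member of its hyperbolic line.
-/

set_option autoImplicit false
set_option linter.unusedSectionVars false

namespace Cfsg.Agent.H97.Refl3

open Cfsg QuadraticMap
open Cfsg.Agent.Orthogonal (Nondeg O rO rO_app map_add_polar qmap_smul polar_self'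
  polar_smul_left' polar_smul_right' exists_perp_pair_value perp mem_perp_span_pair)
open H76.LocallyS3 (cj)
open H80.TTQuad (Cls)
open H7Fischer (refl3)

variable {n : ℕ} {Q : QuadraticForm (ZMod 3) (Fin n → ZMod 3)} {c : ZMod 3}

theorem closure_refl3 : Subgroup.closure (refl3 Q c) = ⊤ := by
  have h := congrArg (Subgroup.map (QuotientGroup.mk' (Subgroup.center (RGrp Q c)))) (closure_rf (Q := Q) (c := c))
  rw [MonoidHom.map_closure, Subgroup.map_top_of_surjective _ (QuotientGroup.mk'_surjective _)] at h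
  refine top_le_iff.1 (h.ge.trans (Subgroup.closure_mono ?_))
  rintro _ ⟨g, ⟨v, hv, rfl⟩, rfl⟩
  exact pt_mem hv

section Nondeg

variable (hQ : Nondeg Q) (hc : c ≠ 0) (hn : 5 ≤ n)
include hQ hc hn

/-- The centre is trivial. -/
theorem center_eq_bot : Subgroup.center (PGrp Q c) = ⊥ := by
  rw [eq_bot_iff]
  intro x hx
  obtain ⟨z, rfl⟩ := QuotientGroup.mk_surjective x
  rw [Subgroup.mem_bot, QuotientGroup.eq_one_iff]
  have hcl : Subgroup.closure
      {g : RGrp Q c | ∃ (v : Fin n → ZMod 3) (hv : Q v = c), rf hv = g} ≤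
      Subgroup.centralizer {z} := by
    rw [Subgroup.closure_le]
    rintro _ ⟨v, hv, rfl⟩
    rw [SetLike.mem_coe, Subgroup.mem_centralizer_singleton_iff]
    obtain ⟨hw, e⟩ := conj_rf hQ hc z hv
    have e2 : pt hw = pt hv := by
      have := Subgroup.mem_center_iff.1 hx (pt hv)
      rw [pt, ← e, QuotientGroup.mk_mul, QuotientGroup.mk_mul, QuotientGroup.mk_inv]
      rw [pt] at this
      rw [← this, mul_inv_cancel_right]
      rfl
    have e3 : rf hw = rf hv := by
      apply toOrth_injective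
      rw [toOrth_rf, toOrth_rf]
      rcases (pt_eq_iff hQ hc hn hw hv).1 e2 with q | q
      · exact (congrArg (rO Q) q).symm
      · exact ((congrArg (rO Q) q).trans (H91.ReflThree.rO_neg _)).symm
    rw [e3, mul_inv_eq_iff_eq_mul] at e
    exact e.symm
  rw [closure_rf] at hcl
  refine Subgroup.mem_center_iff.2 fun g => ?_
  exact Subgroup.mem_centralizer_singleton_iff.1 (hcl (Subgroup.mem_top g))

/-- The members form a class of 3-transpositions. -/
theorem class_refl3 : Cfsg.IsThreeTranspositionClass (refl3 Q c) := by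
  obtain ⟨⟨ho, ht⟩, ⟨a, ha, hD⟩, -⟩ := S5357.result n hn Q hQ.polarBilin c hc
  refine ⟨⟨?_, ?_⟩, ⟨_, ⟨a, ha, rfl⟩, Set.ext fun x => ⟨?_, fun hx => ?_⟩⟩, closure_refl3⟩
  · intro x hx
    obtain ⟨u, hu, rfl⟩ := exists_pt hx
    have h2 : orderOf (rf hu) = 2 := ho _ ⟨u, hu, Orthogonal.reflIso_val u⟩
    refine orderOf_eq_prime ?_ fun h1 => ?_
    · rw [pt, ← QuotientGroup.mk_pow, ← h2, pow_orderOf_eq_one, QuotientGroup.mk_one]
    · obtain ⟨w, hw, hp⟩ := exists_not_perp hQ hn hc
        (y := u) fun e => hc (by rw [← hu, e, QuadraticMap.map_zero])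
      obtain ⟨b, hb, -, hbc⟩ := exists_perp_pair_value hQ two_ne (five_le hn)
        (by rw [hu]; exact hc : Q u ≠ 0) u c
      have e : pt hu = pt hbc := by
        obtain ⟨k, hk⟩ : ∃ k : RGrp Q c, k * rf hu * k⁻¹ = rf hbc := by
          have h1 : IsConj a (rf hu) := hD.le ⟨u, hu, Orthogonal.reflIso_val u⟩
          have h2 : IsConj a (rf hbc) := hD.le ⟨b, hbc, Orthogonal.reflIso_val b⟩
          exact isConj_iff.1 (h1.symm.trans h2)
        rw [h1]
        simp only [pt, ← hk, QuotientGroup.mk_mul, QuotientGroup.mk_inv]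
        rw [show ((rf hu : RGrp Q c) : PGrp Q c) = 1 from h1]
        simp
      rcases (pt_eq_iff hQ hc hn hu hbc).1 e with q | q <;>
        · rw [q] at hb
          simp only [polar_neg_right, polar_self', hu, neg_eq_zero] at hb
          exact mul_ne_zero two_ne hc hb
  · intro x hx y hy
    obtain ⟨g, hg, rfl⟩ := hx
    obtain ⟨k, hk, rfl⟩ := hy
    rcases ht g hg k hk with h | h
    · left; rw [← QuotientGroup.mk_mul, ← QuotientGroup.mk_pow, h]; rfl
    · right; rw [← QuotientGroup.mk_mul, ← QuotientGroup.mk_pow, h]; rfl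
  · rintro ⟨b, hb, rfl⟩
    have hb' : b ∈ {g : RGrp Q c | (g : ↥(Cfsg.isometryGroup (ZMod 3) (⇑Q))) ∈
        Cfsg.reflectionsOfNorm (⇑Q) c} := hb
    rw [hD] at hb'
    obtain ⟨k, rfl⟩ := isConj_iff.1 hb'
    exact isConj_iff.2 ⟨QuotientGroup.mk k, by simp⟩
  · obtain ⟨k, rfl⟩ := isConj_iff.1 hx
    obtain ⟨k, rfl⟩ := QuotientGroup.mk_surjective k
    refine ⟨k * a * k⁻¹, ?_, by simp⟩
    show _ ∈ {g : RGrp Q c | (g : ↥(Cfsg.isometryGroup (ZMod 3) (⇑Q))) ∈
        Cfsg.reflectionsOfNorm (⇑Q) c}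
    rw [hD]
    exact isConj_iff.2 ⟨k, rfl⟩

end Nondeg

end Cfsg.Agent.H97.Refl3

namespace Cfsg.Agent.H97.Refl3

open Cfsg QuadraticMap
open Cfsg.Agent.Orthogonal (Nondeg O rO rO_app map_add_polar qmap_smul polar_self'
  polar_smul_left' polar_smul_right' exists_perp_pair_value perp mem_perp_span_pair)
open H76.LocallyS3 (cj)
open H80.TTQuad (Cls)
open H7Fischer (refl3)

variable {n : ℕ} {Q : QuadraticForm (ZMod 3) (Fin n → ZMod 3)} {c : ZMod 3}
variable (hQ : Nondeg Q) (hc : c ≠ 0) (hn : 5 ≤ n)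
include hQ hc hn

/-- Primitivity of the action on the members. -/
theorem isPrimitive_refl3 : Cfsg.IsPrimitiveUnderConj (refl3 Q c) := by
  obtain ⟨-, -, -, h1, h2, h3⟩ := S5360.result n hn Q hQ.polarBilin c hc
  set π : RGrp Q c →* PGrp Q c := QuotientGroup.mk' _
  have hinj : Set.InjOn π {g : RGrp Q c | (g : ↥(Cfsg.isometryGroup (ZMod 3) (⇑Q))) ∈
      Cfsg.reflectionsOfNorm (⇑Q) c} := fun g hg k hk e => by
    obtain ⟨u, hu, rfl⟩ := exists_rf hg
    obtain ⟨v, hv, rfl⟩ := exists_rf hk
    rcases (pt_eq_iff hQ hc hn hu hv).1 e with q | q <;> subst q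
    · rfl
    · exact (rf_neg hu).symm
  refine ⟨?_, ?_, fun B hB hblock => ?_⟩
  · rintro _ ⟨a, ha, rfl⟩ _ ⟨b, hb, rfl⟩
    obtain ⟨g, rfl⟩ := h1 a ha b hb
    exact ⟨π g, by simp [π]⟩
  · obtain ⟨a, ha, b, hb, hab⟩ := h2
    exact ⟨π a, ⟨a, ha, rfl⟩, π b, ⟨b, hb, rfl⟩, fun e => hab (hinj ha hb e)⟩
  · set B' := {g : RGrp Q c | (g : ↥(Cfsg.isometryGroup (ZMod 3) (⇑Q))) ∈
      Cfsg.reflectionsOfNorm (⇑Q) c ∧ π g ∈ B} with hB'
    have hcl : ∀ k g : RGrp Q c, (g : ↥(Cfsg.isometryGroup (ZMod 3) (⇑Q))) ∈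
        Cfsg.reflectionsOfNorm (⇑Q) c →
        ((k * g * k⁻¹ : RGrp Q c) : ↥(Cfsg.isometryGroup (ZMod 3) (⇑Q))) ∈
          Cfsg.reflectionsOfNorm (⇑Q) c := fun k g hg => by
      obtain ⟨u, hu, rfl⟩ := exists_rf hg
      obtain ⟨hw, e⟩ := conj_rf hQ hc k hu
      rw [e]; exact ⟨_, hw, Orthogonal.reflIso_val _⟩
    have himg : π '' B' = B := Set.Subset.antisymm (by rintro _ ⟨g, hg, rfl⟩; exact hg.2)
      fun x hx => by
        obtain ⟨g, hg, rfl⟩ := hB hx
        exact ⟨g, ⟨hg, hx⟩, rfl⟩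
    have hblock' : ∀ k : RGrp Q c, (fun x => k * x * k⁻¹) '' B' = B' ∨
        Disjoint ((fun x => k * x * k⁻¹) '' B') B' := fun k => by
      rcases hblock (π k) with h | h
      · left
        ext g
        constructor
        · rintro ⟨a, ha, rfl⟩
          exact ⟨hcl k a ha.1, h ▸ ⟨π a, ha.2, by simp [π]⟩⟩
        · intro hg
          have h' : π g ∈ (fun x => π k * x * (π k)⁻¹) '' B := h.symm ▸ hg.2
          obtain ⟨y, hy, e⟩ := h'
          obtain ⟨a, ha, rfl⟩ := hB hy
          refine ⟨a, ⟨ha, hy⟩, hinj (hcl k a ha) hg.1 ?_⟩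
          rw [← e]; simp [π]
      · right
        rw [Set.disjoint_left]
        rintro g ⟨a, ha, rfl⟩ hg
        exact Set.disjoint_left.1 h ⟨π a, ha.2, by simp [π]⟩ hg.2
    rcases h3 B' (fun g hg => hg.1) hblock' with h | h
    · left
      rw [← himg]; exact h.image _
    · right
      rw [← himg, h]
      rfl

/-- The members form a class without solvable normal subgroups. -/
theorem cls_refl3 : Cls (refl3 Q c) := by
  obtain ⟨u, hu⟩ := hQ.exists_value (by rw [Module.finrank_fin_fun]; omega) c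
  obtain ⟨v, huv, -, hv⟩ := exists_perp_pair_value hQ two_ne (five_le hn)
    (by rw [hu]; exact hc : Q u ≠ 0) u c
  have hcl := class_refl3 hQ hc hn
  refine H7Fischer.cls_of_primitive ⟨hcl.1, fun g d hd => H44.tt_invariant hcl g hd, hcl.2.2⟩
    (isPrimitive_refl3 hQ hc hn)
    (center_eq_bot hQ hc hn) ⟨_, pt_mem hu, _, pt_mem hv, fun e => ?_, (commute_pt hQ hc hn hu hv).2 (Or.inl huv)⟩
  rcases (pt_eq_iff hQ hc hn hu hv).1 e with q | q <;>
    · rw [q] at huv
      simp only [polar_neg_right, polar_self', hu, neg_eq_zero] at huv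
      exact mul_ne_zero two_ne hc huv

omit hQ hc hn in
theorem third_table : ∀ α β p d : ZMod 3, d ≠ 0 → p ≠ 0 →
    α ^ 2 * d + β ^ 2 * d + α * β * p = d →
    (β = 0 ∧ (α = 1 ∨ α = -1)) ∨ (α = 0 ∧ (β = 1 ∨ β = -1)) ∨
      (β = 1 ∧ α = -(d * p)) ∨ (β = -1 ∧ α = d * p) := by decide

/-- A vector orthogonal to the vectors of norm `c` orthogonal to two others lies in their span. -/
theorem mem_span_of_perp {u v w : Fin n → ZMod 3} (hu : Q u = c) (hv : Q v = c) (hw : Q w = c)
    (hp : polar Q u v ≠ 0)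
    (h : ∀ z, Q z = c → polar Q z u = 0 → polar Q z v = 0 → polar Q z w = 0) :
    w ∈ Submodule.span (ZMod 3) {u, v} := by
  set P := Submodule.span (ZMod 3) ({u, v} : Set (Fin n → ZMod 3))
  have huP : u ∈ P := Submodule.subset_span (by simp)
  have hvP : v ∈ P := Submodule.subset_span (by simp)
  have hcc : c * c = 1 := (show ∀ d : ZMod 3, d ≠ 0 → d * d = 1 by decide) c hc
  set k := 2 * c * polar Q u v with hk
  set r := v - k • u with hr
  have hur : polar Q u r = 0 := by
    rw [hr, polar_sub_right, polar_smul_right', polar_self', hu, hk]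
    exact (show ∀ d p : ZMod 3, d ≠ 0 → p - 2 * d * p * (2 * d) = 0 by decide) c _ hc
  have hvr : polar Q v r = 0 := by
    rw [hr, polar_sub_right, polar_smul_right', polar_self', hv, polar_comm (⇑Q) v u, hk]
    exact (show ∀ d p : ZMod 3, d ≠ 0 → p ≠ 0 → 2 * d - 2 * d * p * p = 0 by decide) c _ hc hp
  have hrr : Q r = 0 := by
    have := polar_self' Q r
    rw [show polar Q r r = 0 by
      nth_rewrite 1 [hr]; rw [polar_sub_left, polar_smul_left', hvr, hur, mul_zero, sub_zero]] at this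
    exact (mul_eq_zero.1 this.symm).resolve_left two_ne
  obtain ⟨a, hua, hva, ha⟩ := exists_perp_pair_value hQ two_ne (five_le hn)
    (by rw [hu]; exact hc : Q u ≠ 0) v c
  have hwa : polar Q a w = 0 := h a ha (by rwa [polar_comm]) (by rwa [polar_comm])
  have hra : polar Q r a = 0 := by
    rw [hr, polar_sub_left, polar_smul_left', hva, hua, mul_zero, sub_zero]
  have hwr : polar Q r w = 0 := by
    have := h (a + r) (by rw [map_add_polar, ha, hrr, polar_comm (⇑Q) a r, hra]; ring)
      (by rw [polar_add_left, polar_comm (⇑Q) a u, hua, polar_comm (⇑Q) r u, hur, add_zero])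
      (by rw [polar_add_left, polar_comm (⇑Q) a v, hva, polar_comm (⇑Q) r v, hvr, add_zero])
    rwa [polar_add_left, hwa, zero_add] at this
  have hvw : polar Q v w = k * polar Q u w := by
    rw [hr, polar_sub_left, polar_smul_left', sub_eq_zero] at hwr
    exact hwr
  have hp' : polar Q u w ≠ 0 := fun e => by
    rw [e, mul_zero, polar_comm] at hvw
    have := h w hw (by rwa [polar_comm] at e) hvw
    rw [polar_self', hw] at this
    exact mul_ne_zero two_ne hc this
  set α := 2 * c * polar Q u w with hα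
  set s := w - α • u with hs
  have hus : polar Q u s = 0 := by
    rw [hs, polar_sub_right, polar_smul_right', polar_self', hu, hα]
    exact (show ∀ d p : ZMod 3, d ≠ 0 → p - 2 * d * p * (2 * d) = 0 by decide) c _ hc
  have hvs : polar Q v s = 0 := by
    have hrs : polar Q r s = 0 := by
      rw [hs, polar_sub_right, polar_smul_right', hwr, polar_comm (⇑Q) r u, hur, mul_zero, sub_zero]
    rw [hr, polar_sub_left, polar_smul_left', hus, mul_zero, sub_zero] at hrs
    exact hrs
  have e : w = s + α • u := by rw [hs, sub_add_cancel]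
  have hsw : polar Q s w = polar Q s s := by
    nth_rewrite 1 [e]
    rw [polar_add_right, polar_smul_right', polar_comm (⇑Q) s u, hus, mul_zero, add_zero]
  have hss : Q s = 0 := by
    rw [hs, sub_eq_add_neg, ← neg_smul, map_add_polar, qmap_smul, polar_smul_right',
      polar_comm (⇑Q) w u, hw, hu, hα]
    exact (show ∀ d p : ZMod 3, d ≠ 0 → p ≠ 0 →
      d + (-(2 * d * p)) ^ 2 * d + -(2 * d * p) * p = 0 by decide) c _ hc hp'
  have hsP : s ∈ perp Q (perp Q P) := by
    intro y hy
    obtain ⟨hyu, hyv⟩ := (mem_perp_span_pair Q).1 hy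
    by_contra hne
    set q := polar Q y s with hq
    set l := q * (c - Q y) with hl
    have hqq : q * q = 1 := (show ∀ d : ZMod 3, d ≠ 0 → d * d = 1 by decide) q hne
    have hz : Q (y + l • s) = c := by
      rw [map_add_polar, qmap_smul, hss, polar_smul_right', ← hq, hl]
      linear_combination (c - Q y) * hqq
    have h' := h (y + l • s) hz
      (by rw [polar_add_left, polar_smul_left', polar_comm (⇑Q) s u, hus, mul_zero, add_zero,
        polar_comm]; exact hyu)
      (by rw [polar_add_left, polar_smul_left', polar_comm (⇑Q) s v, hvs, mul_zero, add_zero,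
        polar_comm]; exact hyv)
    rw [polar_add_left, polar_smul_left', hsw, polar_self', hss, mul_zero, mul_zero, add_zero] at h'
    nth_rewrite 1 [e] at h'
    rw [polar_add_right, polar_smul_right', polar_comm (⇑Q) y u, hyu, mul_zero, add_zero, ← hq] at h'
    exact hne h'
  rw [hQ.perp_perp] at hsP
  rw [e]
  exact add_mem hsP (Submodule.smul_mem _ _ huP)

/-- The third member of a triangle is the only further member of the hyperbolic line. -/
theorem hypUnique_refl3 : H7Thick.HypUnique (refl3 Q c) := by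
  intro a ha b hb hab d hd had h
  obtain ⟨u, hu, rfl⟩ := exists_pt ha
  obtain ⟨v, hv, rfl⟩ := exists_pt hb
  obtain ⟨w, hw, rfl⟩ := exists_pt hd
  rw [commute_pt hQ hc hn hu hv, not_or] at hab
  rw [commute_pt hQ hc hn hu hw, not_or] at had
  have hspan := mem_span_of_perp hQ hc hn hu hv hw hab.1 fun z hz hzu hzv => by
    have h1 := h (pt hz) (pt_mem hz) ((commute_pt hQ hc hn hz hu).2 (Or.inl hzu))
      ((commute_pt hQ hc hn hz hv).2 (Or.inl hzv))
    rcases (commute_pt hQ hc hn hz hw).1 h1 with q | q | q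
    · exact q
    · subst q; exact absurd ((polar_comm (⇑Q) u w).trans hzu) had.1
    · subst q
      rw [polar_comm (⇑Q) u (-z), polar_neg_left, neg_eq_zero] at had
      exact absurd hzu had.1
  obtain ⟨α, β, rfl⟩ := Submodule.mem_span_pair.1 hspan
  obtain ⟨hr, hrec⟩ := cj_pt hQ hc hu hv
  rw [hrec, eq_comm (a := pt hw), pt_eq_iff hQ hc hn hv hw, eq_comm (a := pt hw),
    pt_eq_iff hQ hc hn hr hw]
  have hq := hw
  rw [map_add_polar, qmap_smul, qmap_smul, polar_smul_left', polar_smul_right', hu, hv,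
    ← mul_assoc] at hq
  have hcinv : (Q u)⁻¹ = c := by
    rw [hu]; exact inv_eq_of_mul_eq_one_right
      ((show ∀ d : ZMod 3, d ≠ 0 → d * d = 1 by decide) c hc)
  rw [rO_app, hcinv]
  rcases third_table α β _ c hc hab.1 hq with ⟨rfl, q⟩ | ⟨rfl, q⟩ | ⟨rfl, q⟩ | ⟨rfl, q⟩
  · exfalso
    refine had.2 ?_
    rcases q with rfl | rfl <;> simp
  · left
    rcases q with rfl | rfl <;> simp
  · right; left
    rw [q, one_smul, neg_smul, sub_eq_add_neg, add_comm]
  · right; right
    rw [q, neg_smul, one_smul, neg_sub, sub_eq_add_neg]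

end Cfsg.Agent.H97.Refl3
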