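import Cfsg.Agent.H97.Refl3.Bridge
import Cfsg.Agent.H24.TTOrth.Main

/-!
Fischer's theorem: a residue of orthogonal type over the field with three elements gives the group one
dimension higher.
-/

set_option autoImplicit false

namespace Cfsg.Agent.H97.Refl3

open H76.LocallyS3 (nb)
open H80.TTQuad (Cls)
open H7Fischer (IsOrthThree Central Conn)
open H24.TTOrth (Form Pts ext)

universe u

variable {G : Type u} [Group G] [Finite G] {D : Set G}

theorem orth_three_step (H : Cls D) (hC : Central D) (hconn : Conn D) {d : G} (hd : d ∈ D) {n : ℕ}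
    (hn : 5 ≤ n) {μ c : ZMod 3} (hR : IsOrthThree (H7Fischer.res D d) n μ c) :
    IsOrthThree D (n + 1) (-c * μ) c := by
  obtain ⟨Q, θ, hQ, hμ, hc, P⟩ := exists_pts H hC hd hn hR
  obtain ⟨Θ, PΘ⟩ := H24.TTOrth.residue_orth H hconn hd (form_bil hQ hc)
    (by rw [Module.finrank_fin_fun]; exact hn) P
  exact hμ ▸ isOrthThree_of_pts H hn hQ hc PΘ

end Cfsg.Agent.H97.Refl3
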