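import Cfsg.Agent.H97.Refl3.Class

/-!
Fischer's theorem: the members at a member of the reflection class over the field with three
elements, and the members at two members that do not commute.
-/

set_option autoImplicit false
set_option linter.unusedSectionVars false

namespace Cfsg.Agent.H97.Refl3

open Cfsg QuadraticMap
open Cfsg.Agent.Orthogonal (Nondeg polar_self' polar_smul_left' map_add_polar qmap_smul
  polar_smul_right')
open H76.LocallyS3 (nb)
open H7Fischer (refl3)

variable {n : ℕ} {Q : QuadraticForm (ZMod 3) (Fin n → ZMod 3)} {c : ZMod 3}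
variable (hQ : Nondeg Q) (hc : c ≠ 0) (hn : 5 ≤ n)
include hQ hc hn

/-- The members at a member are the perpendicular vectors. -/
theorem mem_nb_pt {u v : Fin n → ZMod 3} (hu : Q u = c) (hv : Q v = c) :
    pt hv ∈ nb (refl3 Q c) (pt hu) ↔ polar Q u v = 0 := by
  constructor
  · rintro ⟨-, hne, h⟩
    exact ((commute_pt hQ hc hn hu hv).1 h).resolve_right fun q =>
      hne ((pt_eq_iff hQ hc hn hu hv).2 q).symm
  · intro h
    refine ⟨pt_mem hv, fun e => ?_, (commute_pt hQ hc hn hu hv).2 (Or.inl h)⟩
    rcases (pt_eq_iff hQ hc hn hu hv).1 e.symm with q | q <;>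
      · rw [q] at h
        simp only [polar_neg_right, polar_self', hu, neg_eq_zero] at h
        exact mul_ne_zero two_ne hc h

/-- The members at two members that do not commute are the vectors perpendicular to the first and
to an isotropic vector perpendicular to it. -/
theorem exists_common_pt {u v : Fin n → ZMod 3} (hu : Q u = c) (hv : Q v = c)
    (h : ¬ Commute (pt hu) (pt hv)) :
    ∃ r, r ≠ 0 ∧ Q r = 0 ∧ polar Q u r = 0 ∧ r ∈ Submodule.span (ZMod 3) {u, v} ∧
      ∀ (z : Fin n → ZMod 3) (hz : Q z = c),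
        pt hz ∈ nb (refl3 Q c) (pt hu) ∩ nb (refl3 Q c) (pt hv) ↔
          polar Q u z = 0 ∧ polar Q r z = 0 := by
  rw [commute_pt hQ hc hn hu hv, not_or] at h
  obtain ⟨hp, hne⟩ := h
  set k := 2 * c * polar Q u v with hk
  refine ⟨v - k • u, fun e => hne ?_, ?_, ?_, ?_, fun z hz => ?_⟩
  · rw [sub_eq_zero] at e
    have hk1 : k = 1 ∨ k = -1 := (trichotomy k).resolve_left fun q =>
      hc (by rw [← hv, e, q, zero_smul, QuadraticMap.map_zero])
    rcases hk1 with q | q <;> rw [q] at e
    · exact Or.inl (e.trans (one_smul _ _))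
    · exact Or.inr (e.trans (neg_one_smul _ _))
  · rw [sub_eq_add_neg, ← neg_smul, map_add_polar, qmap_smul, polar_smul_right', hu, hv,
      polar_comm (⇑Q) v u, hk]
    exact (show ∀ d p : ZMod 3, d ≠ 0 → p ≠ 0 →
      d + (-(2 * d * p)) ^ 2 * d + -(2 * d * p) * p = 0 by decide) c _ hc hp
  · rw [polar_sub_right, polar_smul_right', polar_self', hu, hk]
    exact (show ∀ d p : ZMod 3, d ≠ 0 → p - 2 * d * p * (2 * d) = 0 by decide) c _ hc
  · exact Submodule.mem_span_pair.2 ⟨-k, 1, by rw [one_smul, neg_smul]; abel⟩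
  · rw [Set.mem_inter_iff, mem_nb_pt hQ hc hn hu hz, mem_nb_pt hQ hc hn hv hz, polar_sub_left,
      polar_smul_left']
    constructor
    · rintro ⟨h1, h2⟩
      exact ⟨h1, by rw [h1, h2, mul_zero, sub_zero]⟩
    · rintro ⟨h1, h2⟩
      rw [h1, mul_zero, sub_zero] at h2
      exact ⟨h1, h2⟩

end Cfsg.Agent.H97.Refl3
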