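import Cfsg.Agent.H7Fischer.Residue
import Cfsg.Agent.S5357
import Cfsg.Agent.S5360

/-!
Fischer's theorem: the class of reflections of one norm over the field with three elements, modulo
the centre, described by the vectors of that norm.
-/

set_option autoImplicit false
set_option linter.unusedSectionVars false

namespace Cfsg.Agent.H97.Refl3

open Cfsg QuadraticMap
open Cfsg.Agent.Orthogonal (Nondeg polar_smul_right' O rO rO_app toO toO_eq_rO_iff reflIso reflIso_val
  map_add_polar qmap_smul polar_self' conj_rO rO_mul_self eq_or_neg_of_rO_eq exists_perp_pair_value)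
open H76.LocallyS3 (cj)
open H7Fischer (refl3)

variable {n : ℕ} {Q : QuadraticForm (ZMod 3) (Fin n → ZMod 3)} {c : ZMod 3}

variable (Q c) in
/-- The reflection group. -/
abbrev RGrp : Type := ↥(Cfsg.reflectionSubgroup (⇑Q) c)

variable (Q c) in
/-- The projective reflection group. -/
abbrev PGrp : Type := RGrp Q c ⧸ Subgroup.center (RGrp Q c)

variable (Q c) in
/-- The reflection group inside the orthogonal group. -/
noncomputable def toOrth : RGrp Q c →* O Q :=
  (toO Q).toMonoidHom.comp (Cfsg.reflectionSubgroup (⇑Q) c).subtype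

theorem toOrth_injective : Function.Injective (toOrth Q c) :=
  (toO Q).injective.comp Subtype.val_injective

/-- The reflection in a vector of norm `c`. -/
noncomputable def rf {v : Fin n → ZMod 3} (hv : Q v = c) : RGrp Q c :=
  ⟨reflIso Q v, Subgroup.subset_closure ⟨v, hv, reflIso_val v⟩⟩

theorem toOrth_rf {v : Fin n → ZMod 3} (hv : Q v = c) : toOrth Q c (rf hv) = rO Q v :=
  (toO Q).apply_symm_apply _

/-- The member of the class at a vector of norm `c`. -/
noncomputable def pt {v : Fin n → ZMod 3} (hv : Q v = c) : PGrp Q c := QuotientGroup.mk (rf hv)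

theorem pt_mem {v : Fin n → ZMod 3} (hv : Q v = c) : pt hv ∈ refl3 Q c :=
  ⟨rf hv, ⟨v, hv, reflIso_val v⟩, rfl⟩

theorem exists_rf {g : RGrp Q c}
    (hg : (g : ↥(Cfsg.isometryGroup (ZMod 3) (⇑Q))) ∈ Cfsg.reflectionsOfNorm (⇑Q) c) :
    ∃ (v : Fin n → ZMod 3) (hv : Q v = c), rf hv = g := by
  obtain ⟨v, hv, hgv⟩ := hg
  refine ⟨v, hv, toOrth_injective ?_⟩
  rw [toOrth_rf]
  exact ((toO_eq_rO_iff Q _ v).2 hgv).symm

theorem exists_pt {x : PGrp Q c} (hx : x ∈ refl3 Q c) :
    ∃ (v : Fin n → ZMod 3) (hv : Q v = c), pt hv = x := by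
  obtain ⟨g, hg, rfl⟩ := hx
  obtain ⟨v, hv, rfl⟩ := exists_rf hg
  exact ⟨v, hv, rfl⟩

theorem closure_rf : Subgroup.closure
    {g : RGrp Q c | ∃ (v : Fin n → ZMod 3) (hv : Q v = c), rf hv = g} = ⊤ := by
  refine top_le_iff.1 ((Subgroup.closure_closure_coe_preimage (k := Cfsg.reflectionsOfNorm (⇑Q) c)).ge.trans
    (Subgroup.closure_mono fun g hg => exists_rf hg))

theorem rf_neg {v : Fin n → ZMod 3} (hv : Q v = c) :
    rf (Q := Q) (c := c) (show Q (-v) = c by rw [QuadraticMap.map_neg]; exact hv) = rf hv :=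
  toOrth_injective (by rw [toOrth_rf, toOrth_rf, H91.ReflThree.rO_neg])

theorem two_ne : (2 : ZMod 3) ≠ 0 := by decide

theorem trichotomy : ∀ x : ZMod 3, x = 0 ∨ x = 1 ∨ x = -1 := by decide

section Nondeg

variable (hQ : Nondeg Q) (hc : c ≠ 0) (hn : 5 ≤ n)
include hQ hc hn

omit hQ hc in
theorem five_le : 5 ≤ Module.finrank (ZMod 3) (Fin n → ZMod 3) := by
  rw [Module.finrank_fin_fun]; exact hn

omit hc in
/-- Every non-zero vector has a vector of norm `c` not orthogonal to it. -/
theorem exists_not_perp (hc' : c ≠ 0) {y : Fin n → ZMod 3} (hy : y ≠ 0) :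
    ∃ w, Q w = c ∧ polar Q y w ≠ 0 := by
  have key : ∀ q : ZMod 3, ∀ d : ZMod 3, d ≠ 0 → q = 0 ∨ q = d ∨ q = -d := by decide
  have key' : ∀ d : ZMod 3, -d + -d = d := by decide
  rcases key (Q y) c hc' with h | h | h
  · obtain ⟨f, hf, hyf⟩ := hQ.exists_partner hy h
    obtain ⟨a, hya, hfa, ha⟩ := exists_perp_pair_value hQ two_ne (five_le hn) (u := y + f)
      (by rw [map_add_polar, h, hf, hyf]; decide) f c
    rw [polar_add_left, hfa, add_zero] at hya
    exact ⟨a + f, by rw [map_add_polar, ha, hf, polar_comm (⇑Q) a f, hfa]; ring,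
      by rw [polar_add_right, hya, hyf, zero_add]; exact one_ne_zero⟩
  · exact ⟨y, h, by rw [polar_self', h]; exact mul_ne_zero two_ne hc'⟩
  · obtain ⟨t, ht, -, htc⟩ := exists_perp_pair_value hQ two_ne (five_le hn) (u := y)
      (by rw [h]; exact neg_ne_zero.2 hc') y (-c)
    refine ⟨y + t, by rw [map_add_polar, h, htc, ht, add_zero]; exact key' c, ?_⟩
    rw [polar_add_right, polar_self', ht, h, add_zero]
    exact mul_ne_zero two_ne (neg_ne_zero.2 hc')

/-- An element fixing every member up to sign squares to one. -/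
theorem sq_eq_one {z : RGrp Q c}
    (h : ∀ w : Fin n → ZMod 3, Q w = c →
      (toOrth Q c z : (Fin n → ZMod 3) ≃ₗ[ZMod 3] (Fin n → ZMod 3)) w = w ∨
      (toOrth Q c z : (Fin n → ZMod 3) ≃ₗ[ZMod 3] (Fin n → ZMod 3)) w = -w) : z * z = 1 := by
  refine toOrth_injective (Orthogonal.O.ext_app fun x => ?_)
  have h1 : ∀ w : Fin n → ZMod 3, Q w = c → (toOrth Q c z : (Fin n → ZMod 3) ≃ₗ[ZMod 3] (Fin n → ZMod 3))
      ((toOrth Q c z : (Fin n → ZMod 3) ≃ₗ[ZMod 3] (Fin n → ZMod 3)) w) = w := by
    intro w hw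
    rcases h w hw with e | e
    · rw [e, e]
    · rw [e, map_neg, e, neg_neg]
  rw [map_mul, map_one, Subgroup.coe_mul, Subgroup.coe_one, Orthogonal.mul_app, Orthogonal.one_app]
  refine sub_eq_zero.1 (by_contra fun hne => ?_)
  obtain ⟨w, hw, hp⟩ := exists_not_perp hQ hn hc hne
  refine hp ?_
  rw [polar_sub_left]
  nth_rewrite 1 [← h1 w hw]
  rw [Orthogonal.O.polar_app, Orthogonal.O.polar_app, sub_self]

omit hn in
/-- A member is moved to the member at the image vector. -/
theorem conj_rf (g : RGrp Q c) {v : Fin n → ZMod 3} (hv : Q v = c) :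
    ∃ hv' : Q ((toOrth Q c g : _ ≃ₗ[ZMod 3] _) v) = c, g * rf hv * g⁻¹ = rf hv' := by
  refine ⟨by rw [Orthogonal.O.map_app]; exact hv, toOrth_injective ?_⟩
  rw [map_mul, map_mul, map_inv, toOrth_rf, toOrth_rf, conj_rO]

omit hn hQ in
theorem eq_or_neg_of_rf {u v : Fin n → ZMod 3} (hu : Q u = c) (hv : Q v = c) (h : rf hu = rf hv) :
    v = u ∨ v = -u := by
  have e : rO Q u = rO Q v := by rw [← toOrth_rf hu, h, toOrth_rf]
  rcases eq_or_neg_of_rO_eq two_ne hc hu hv e with q | q <;> simp [q]

/-- A central element fixes the vectors of norm `c` up to sign. -/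
theorem sign_of_central {z : RGrp Q c} (hz : z ∈ Subgroup.center (RGrp Q c)) {w : Fin n → ZMod 3}
    (hw : Q w = c) :
    (toOrth Q c z : _ ≃ₗ[ZMod 3] _) w = w ∨ (toOrth Q c z : _ ≃ₗ[ZMod 3] _) w = -w := by
  obtain ⟨hw', e⟩ := conj_rf hQ hc z hw
  rw [← Subgroup.mem_center_iff.1 hz, mul_inv_cancel_right] at e
  exact eq_or_neg_of_rf hc hw hw' e

omit hQ hc hn in
theorem polar_cases {u v : Fin n → ZMod 3} (hu : Q u = c) (h : v = u ∨ v = -u) :
    polar Q u v = 2 * c ∨ polar Q u v = -(2 * c) := by
  rcases h with rfl | rfl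
  · left; rw [polar_self', hu]
  · right; rw [polar_neg_right, polar_self', hu]

omit hQ hn in
/-- A reflection fixing a member up to sign is at it or at a perpendicular vector. -/
theorem refl_cases {u v : Fin n → ZMod 3} (hu : Q u = c)
    (h : (rO Q u : _ ≃ₗ[ZMod 3] _) v = v ∨ (rO Q u : _ ≃ₗ[ZMod 3] _) v = -v) :
    polar Q u v = 0 ∨ v = u ∨ v = -u := by
  by_cases hp : polar Q u v = 0
  · exact Or.inl hp
  refine Or.inr ?_
  have hk : (Q u)⁻¹ * polar Q u v = 1 ∨ (Q u)⁻¹ * polar Q u v = -1 :=
    (trichotomy _).resolve_left (mul_ne_zero (inv_ne_zero (hu.symm ▸ hc)) hp)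
  rw [rO_app] at h
  generalize (Q u)⁻¹ * polar (⇑Q) u v = k at hk h
  rcases h with h | h
  · exfalso
    rcases smul_eq_zero.1 (sub_eq_self.1 h) with r | r
    · subst r; revert hk; decide
    · exact hc (by rw [← hu, r, QuadraticMap.map_zero])
  · have hkv : k • u = (2 : ZMod 3) • v := by
      calc k • u = v - (v - k • u) := by abel
        _ = v - -v := by rw [h]
        _ = (2 : ZMod 3) • v := by rw [two_smul]; abel
    have : v = (2 * k) • u := by
      rw [mul_smul, hkv, smul_smul, show (2 : ZMod 3) * 2 = 1 from rfl, one_smul]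
    rcases hk with rfl | rfl
    · right; rw [this]; simp [show (2 : ZMod 3) = -1 from rfl]
    · left; rw [this]; simp [show (2 : ZMod 3) = -1 from rfl]

/-- The members are the vectors of norm `c` up to sign. -/
theorem pt_eq_iff {u v : Fin n → ZMod 3} (hu : Q u = c) (hv : Q v = c) :
    pt hu = pt hv ↔ v = u ∨ v = -u := by
  constructor
  · intro h
    set z := (rf hu)⁻¹ * rf hv with hz
    have hzc : z ∈ Subgroup.center (RGrp Q c) := QuotientGroup.eq.1 h
    by_cases hp : polar Q u v = 0
    · exfalso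
      obtain ⟨a, hua, -, ha⟩ := exists_perp_pair_value hQ two_ne (five_le hn)
        (by rw [hu]; exact hc : Q u ≠ 0) v c
      obtain ⟨b, hab, hub, hb⟩ := exists_perp_pair_value hQ two_ne (five_le hn)
        (by rw [ha]; exact hc : Q a ≠ 0) u (-c)
      set y := a + b with hy
      have huy : polar Q u y = 0 := by rw [polar_add_right, hua, hub, add_zero]
      have hy0 : y ≠ 0 := fun e => by
        have := congrArg (fun t => polar Q a t) e
        simp only [hy, polar_add_right, hab, polar_self', ha, add_zero, polar_zero_right] at this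
        exact mul_ne_zero two_ne hc this
      have hyy : Q y = 0 := by rw [map_add_polar, ha, hb, hab]; ring
      have hw : Q (u + y) = c := by rw [map_add_polar, hu, hyy, huy]; ring
      have hzw := sign_of_central hQ hc hn hzc hw
      rw [hz, map_mul, map_inv, toOrth_rf, toOrth_rf, Subgroup.coe_mul, Orthogonal.mul_app,
        Orthogonal.rO_inv, rO_app Q v, polar_add_right, polar_comm (⇑Q) v u, hp, zero_add,
        map_sub, map_smul, map_add, Orthogonal.rO_self (by rw [hu]; exact hc),
        Orthogonal.rO_fix huy, Orthogonal.rO_fix hp] at hzw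
      have hpu : ∀ k : ZMod 3, polar Q u (k • v) = 0 := fun k => by
        rw [polar_smul_right, hp, smul_zero]
      rcases hzw with e | e <;> have e' := congrArg (fun t => polar Q u t) e
      · simp only [polar_sub_right, polar_add_right, polar_neg_right, polar_self', hu, huy, hpu,
          add_zero, sub_zero] at e'
        exact hc ((show ∀ d : ZMod 3, -(2 * d) = 2 * d → d = 0 by decide) c e')
      · rw [sub_eq_iff_eq_add, neg_add, add_assoc, add_right_inj] at e
        set k := (Q v)⁻¹ * polar Q v y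
        have hyk : (2 : ZMod 3) • y = k • v := by rw [two_smul]; nth_rewrite 2 [e]; abel
        have e2 := congrArg Q hyk
        rw [qmap_smul, qmap_smul, hyy, hv, mul_zero] at e2
        have hk : k = 0 := pow_eq_zero_iff two_ne_zero |>.1 ((mul_eq_zero.1 e2.symm).resolve_right hc)
        rw [hk, zero_smul, smul_eq_zero] at hyk
        exact hy0 (hyk.resolve_left two_ne)
    · by_contra hne
      push Not at hne
      obtain ⟨hne1, hne2⟩ := hne
      have h3 := (H91.ReflThree.sq_or_cube trichotomy hc hu hv)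
      have hinv : (rf hu)⁻¹ = rf hu := toOrth_injective (by
        rw [map_inv, toOrth_rf, Orthogonal.rO_inv])
      have hsq : z * z = 1 := sq_eq_one hQ hc hn fun w hw => sign_of_central hQ hc hn hzc hw
      rcases h3 with h3 | h3
      · rw [_root_.sq] at h3
        have e : rO Q u * rO Q v * rO Q u = rO Q v := by
          calc _ = rO Q u * rO Q v * rO Q u * (rO Q v * rO Q v) := by rw [rO_mul_self, mul_one]
            _ = rO Q u * rO Q v * (rO Q u * rO Q v) * rO Q v := by simp only [mul_assoc]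
            _ = _ := by rw [h3, one_mul]
        have e' := conj_rO (rO Q u) v
        rw [Orthogonal.rO_inv, e] at e'
        have hw : Q ((rO Q u : _ ≃ₗ[ZMod 3] _) v) = c := by rw [Orthogonal.O.map_app]; exact hv
        rcases eq_or_neg_of_rO_eq two_ne hc hw hv e'.symm with q | q
        · rcases refl_cases hc hu (Or.inl q.symm) with r | r | r
          exacts [hp r, absurd r hne1, absurd r hne2]
        · rcases refl_cases hc hu (Or.inr (neg_eq_iff_eq_neg.mp q.symm)) with r | r | r
          exacts [hp r, absurd r hne1, absurd r hne2]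
      · have e : rO Q u * rO Q v = 1 := by
          have := congrArg (toOrth Q c) hsq
          rw [hz, hinv, map_mul, map_mul, map_one, toOrth_rf, toOrth_rf] at this
          rw [pow_succ, _root_.sq, this, one_mul] at h3
          exact h3
        have e' : rO Q u = rO Q v :=
          calc rO Q u = rO Q u * (rO Q v * rO Q v) := by rw [rO_mul_self, mul_one]
            _ = rO Q v := by rw [← mul_assoc, e, one_mul]
        rcases eq_or_neg_of_rO_eq two_ne hc hu hv e' with q | q
        · exact hne1 q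
        · exact hne2 q
  · rintro (rfl | rfl)
    · rfl
    · exact congrArg QuotientGroup.mk (rf_neg hu).symm

omit hn in
/-- Conjugation is reflection. -/
theorem cj_pt {u v : Fin n → ZMod 3} (hu : Q u = c) (hv : Q v = c) :
    ∃ hw : Q ((rO Q u : _ ≃ₗ[ZMod 3] _) v) = c, cj (pt hu) (pt hv) = pt hw := by
  obtain ⟨h', e⟩ := conj_rf hQ hc (rf hu) hv
  refine ⟨by rw [Orthogonal.O.map_app]; exact hv, ?_⟩
  have e2 : cj (pt hu) (pt hv) = pt h' := by
    rw [cj, pt, pt, ← QuotientGroup.mk_inv, ← QuotientGroup.mk_mul, ← QuotientGroup.mk_mul, e]; rfl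
  rw [e2]
  simp only [pt]
  congr 1
  exact toOrth_injective (by rw [toOrth_rf, toOrth_rf, toOrth_rf])

/-- Two members commute when they are equal or their vectors are orthogonal. -/
theorem commute_pt {u v : Fin n → ZMod 3} (hu : Q u = c) (hv : Q v = c) :
    Commute (pt hu) (pt hv) ↔ polar Q u v = 0 ∨ v = u ∨ v = -u := by
  obtain ⟨hw, e⟩ := cj_pt hQ hc hu hv
  have hc' : Commute (pt hu) (pt hv) ↔ cj (pt hu) (pt hv) = pt hv :=
    ⟨H80.TTQuad.cj_eq_of_commute, H80.TTQuad.commute_of_cj_eq⟩
  rw [hc', e, pt_eq_iff hQ hc hn hw hv]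
  constructor
  · intro h
    rcases h with h | h
    · exact refl_cases hc hu (Or.inl h.symm)
    · exact refl_cases hc hu (Or.inr (neg_eq_iff_eq_neg.mp h.symm))
  · rintro (h | rfl | rfl)
    · exact Or.inl (Orthogonal.rO_fix h).symm
    · exact Or.inr (by rw [Orthogonal.rO_self (hu.symm ▸ hc), neg_neg])
    · exact Or.inr (by rw [map_neg, Orthogonal.rO_self (hu.symm ▸ hc), neg_neg])

end Nondeg

end Cfsg.Agent.H97.Refl3
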