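import Cfsg.Agent.H97.Refl3.Class
import Cfsg.Agent.H24.TTOrth.Defs

/-!
Fischer's theorem: passing between a class isomorphic to the reflections of one norm over the
field with three elements and the points of norm one of a form.
-/

set_option autoImplicit false
set_option linter.unusedSectionVars false

namespace Cfsg.Agent.H97.Refl3

open Cfsg QuadraticMap
open Cfsg.Agent.Orthogonal (Nondeg polar_self' nondeg_of_polarBilin map_add_polar)
open H76.LocallyS3 (nb cj)
open H80.TTQuad (Cls)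
open H7Fischer (refl3 IsoTo IsOrthThree Central)
open H24.TTOrth (Form Pts ext)

universe u

variable {G : Type u} [Group G] {D : Set G}

/-- The form with the vectors of norm `c` as norm one vectors. -/
noncomputable def bil {n : ℕ} (Q : QuadraticForm (ZMod 3) (Fin n → ZMod 3)) (c : ZMod 3) :
    (Fin n → ZMod 3) →ₗ[ZMod 3] (Fin n → ZMod 3) →ₗ[ZMod 3] ZMod 3 :=
  (-c) • Q.polarBilin

variable {n : ℕ} {Q : QuadraticForm (ZMod 3) (Fin n → ZMod 3)} {c : ZMod 3}

theorem bil_apply (x y : Fin n → ZMod 3) : bil Q c x y = -c * polar Q x y := rfl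

theorem bil_self (hc : c ≠ 0) (x : Fin n → ZMod 3) : bil Q c x x = 1 ↔ Q x = c := by
  rw [bil_apply, polar_self']
  exact (show ∀ d q : ZMod 3, d ≠ 0 → (-d * (2 * q) = 1 ↔ q = d) by decide) c _ hc

theorem bil_eq_zero (hc : c ≠ 0) (x y : Fin n → ZMod 3) :
    bil Q c x y = 0 ↔ polar Q x y = 0 := by
  rw [bil_apply, mul_eq_zero, or_iff_right (neg_ne_zero.2 hc)]

theorem form_bil (hQ : Nondeg Q) (hc : c ≠ 0) : Form (bil Q c) :=
  ⟨fun x y => by rw [bil_apply, bil_apply, polar_comm],
    fun v h => hQ v fun y => (bil_eq_zero hc v y).1 (h y)⟩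

variable [Finite G]

/-- A residue of orthogonal type gives points of a form at the member. -/
theorem exists_pts (H : Cls D) (hC : Central D) {d : G} (hd : d ∈ D) {μ : ZMod 3} (hn : 5 ≤ n)
    (hR : IsOrthThree (H7Fischer.res D d) n μ c) :
    ∃ (Q : QuadraticForm (ZMod 3) (Fin n → ZMod 3)) (θ : G → (Fin n → ZMod 3)),
      Nondeg Q ∧ Cfsg.polarGramDet (⇑Q) = μ ∧ c ≠ 0 ∧ Pts (nb D d) (bil Q c) θ := by
  classical
  obtain ⟨Q, hQ', hμ, hc, e, he⟩ := hR
  have hQ := nondeg_of_polarBilin hQ'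
  set r := H7Fischer.resEquiv H hC hd
  have hex : ∀ y : ↥(nb D d), ∃ (v : Fin n → ZMod 3) (hv : Q v = c),
      pt hv = e (r y : H93.Residue D d) := fun y => exists_pt (he ▸ ⟨_, (r y).2, rfl⟩)
  choose v hv hpt using hex
  refine ⟨Q, fun g => if h : g ∈ nb D d then v ⟨g, h⟩ else 0, hQ, hμ, hc,
    ⟨fun a ha => ?_, fun a ha b hb h => ?_, fun w hw => ?_, fun a ha b hb hab => ?_⟩⟩
  · simp only [dif_pos ha]
    exact (bil_self hc _).2 (hv _)
  · simp only [dif_pos ha, dif_pos hb] at h
    have e2 : pt (hv ⟨a, ha⟩) = pt (hv ⟨b, hb⟩) := (pt_eq_iff hQ hc hn _ _).2 (by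
      rcases h with h | h
      · exact Or.inl h.symm
      · exact Or.inr (by rw [h, neg_neg]))
    rw [hpt, hpt] at e2
    exact congrArg Subtype.val (r.injective (Subtype.ext (e.injective e2)))
  · have hw' : Q w = c := (bil_self hc w).1 hw
    obtain ⟨x, hx, hxw⟩ : pt hw' ∈ e '' H7Fischer.res D d := he.symm ▸ pt_mem hw'
    set y := r.symm ⟨x, hx⟩
    refine ⟨y, y.2, ?_⟩
    simp only [dif_pos y.2, Subtype.coe_eta]
    refine (pt_eq_iff hQ hc hn hw' (hv y)).1 ?_
    rw [hpt, r.apply_symm_apply, hxw]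
  · simp only [dif_pos ha, dif_pos hb]
    rw [bil_eq_zero hc, ← H7Fischer.commute_rmk H ha hb, ← H7Fischer.commute_map_iff' e]
    have e1 : e (H7Fischer.rmk ha) = pt (hv ⟨a, ha⟩) := (hpt ⟨a, ha⟩).symm
    have e2 : e (H7Fischer.rmk hb) = pt (hv ⟨b, hb⟩) := (hpt ⟨b, hb⟩).symm
    rw [e1, e2, commute_pt hQ hc hn]
    refine ⟨fun h => h.resolve_right fun q => hab ?_, Or.inl⟩
    have e3 : pt (hv ⟨a, ha⟩) = pt (hv ⟨b, hb⟩) := (pt_eq_iff hQ hc hn _ _).2 q
    rw [hpt, hpt] at e3
    exact congrArg Subtype.val (r.injective (Subtype.ext (e.injective e3)))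

/-- Coordinates of a space with one more dimension. -/
noncomputable def split (n : ℕ) :
    (Fin (n + 1) → ZMod 3) →ₗ[ZMod 3] (Fin n → ZMod 3) × ZMod 3 :=
  (LinearMap.funLeft (ZMod 3) (ZMod 3) Fin.castSucc).prod (LinearMap.proj (Fin.last n))

theorem split_apply (x : Fin (n + 1) → ZMod 3) :
    split n x = (fun i => x i.castSucc, x (Fin.last n)) := rfl

theorem split_snoc (v : Fin n → ZMod 3) (t : ZMod 3) :
    split n (Fin.snoc v t : Fin (n + 1) → ZMod 3) = (v, t) := by
  rw [split_apply]; simp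

theorem split_injective : Function.Injective (split n) := fun x y h => by
  rw [← Fin.snoc_init_self x, ← Fin.snoc_init_self y]
  rw [split_apply, split_apply, Prod.mk.injEq] at h
  exact congrArg₂ (fun (p : Fin n → ZMod 3) t => (Fin.snoc p t : Fin (n + 1) → ZMod 3)) h.1 h.2

/-- The orthogonal sum with a line of norm `c`. -/
noncomputable def extQ (Q : QuadraticForm (ZMod 3) (Fin n → ZMod 3)) (c : ZMod 3) :
    QuadraticForm (ZMod 3) (Fin (n + 1) → ZMod 3) :=
  (Q.prod (c • QuadraticMap.sq)).comp (split n)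

theorem extQ_apply (x : Fin (n + 1) → ZMod 3) :
    extQ Q c x = Q (split n x).1 + c * ((split n x).2 * (split n x).2) := rfl

theorem polar_extQ (x y : Fin (n + 1) → ZMod 3) :
    polar (extQ Q c) x y =
      polar Q (split n x).1 (split n y).1 + 2 * c * ((split n x).2 * (split n y).2) := by
  simp only [polar, extQ_apply, map_add, Prod.fst_add, Prod.snd_add]
  ring

theorem nondeg_extQ (hQ : Nondeg Q) (hc : c ≠ 0) : Nondeg (extQ Q c) := by
  intro x hx
  refine split_injective ?_
  rw [map_zero]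
  refine Prod.ext (hQ _ fun y => ?_) ?_
  · have := hx (Fin.snoc y 0)
    rw [polar_extQ, split_snoc, mul_zero, mul_zero, add_zero] at this
    exact this
  · have := hx (Fin.snoc 0 1)
    rw [polar_extQ, split_snoc, QuadraticMap.polar_zero_right, zero_add, mul_one] at this
    exact (mul_eq_zero.1 this).resolve_left (mul_ne_zero two_ne hc)

theorem det_extQ : Cfsg.polarGramDet (⇑(extQ Q c)) = 2 * c * Cfsg.polarGramDet (⇑Q) := by
  unfold Cfsg.polarGramDet
  set A := Matrix.of fun i j : Fin (n + 1) =>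
    polar (extQ Q c) (Pi.single i 1) (Pi.single j 1) with hA
  have h1 : ∀ i : Fin n, split n (Pi.single i.castSucc 1) = (Pi.single i 1, 0) := fun i => by
    rw [split_apply]
    refine Prod.ext (funext fun j => ?_) ?_
    · simp [Pi.single_apply]
    · simp [(Fin.castSucc_lt_last i).ne']
  have h2 : split n (Pi.single (Fin.last n) 1) = (0, 1) := by
    rw [split_apply]
    refine Prod.ext (funext fun j => ?_) ?_
    · simp [(Fin.castSucc_lt_last j).ne]
    · simp
  rw [Matrix.det_succ_row A (Fin.last n), Fintype.sum_eq_single (Fin.last n)]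
  · have hd : A (Fin.last n) (Fin.last n) = 2 * c := by
      rw [hA, Matrix.of_apply, polar_extQ, h2, QuadraticMap.polar_zero_right]; ring
    rw [hd, Fin.succAbove_last, ← two_mul (Fin.last n : ℕ), pow_mul, neg_one_sq, one_pow, one_mul]
    congr 2
    ext i j
    rw [Matrix.submatrix_apply, hA, Matrix.of_apply, Matrix.of_apply, polar_extQ, h1, h1]
    simp
  · intro j hj
    obtain ⟨i, rfl⟩ := Fin.exists_castSucc_eq.2 hj
    rw [hA, Matrix.of_apply, polar_extQ, h2, h1]
    simp

theorem ext_bil (hc : c ≠ 0) (x y : Fin (n + 1) → ZMod 3) :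
    ext (bil Q c) (split n x) (split n y) = -c * polar (extQ Q c) x y := by
  rw [H24.TTOrth.ext_apply, bil_apply, polar_extQ]
  exact (show ∀ d p s t : ZMod 3, d ≠ 0 → -d * p + s * t = -d * (p + 2 * d * (s * t)) by decide)
    c _ _ _ hc

/-- Points of the orthogonal sum give a projective reflection group. -/
theorem isOrthThree_of_pts (H : Cls D) (hn : 5 ≤ n) (hQ : Nondeg Q) (hc : c ≠ 0)
    {Θ : G → (Fin n → ZMod 3) × ZMod 3} (P : Pts D (ext (bil Q c)) Θ) :
    IsOrthThree D (n + 1) (-c * Cfsg.polarGramDet (⇑Q)) c := by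
  classical
  set Q' := extQ Q c
  have hQ' : Nondeg Q' := nondeg_extQ hQ hc
  have hn' : 5 ≤ n + 1 := by omega
  refine ⟨Q', hQ'.polarBilin, ?_, hc, ?_⟩
  · rw [det_extQ, show (2 : ZMod 3) = -1 from rfl, neg_one_mul]
  have key : ∀ x : Fin (n + 1) → ZMod 3, ext (bil Q c) (split n x) (split n x) = 1 ↔ Q' x = c :=
    fun x => by
      rw [ext_bil hc, polar_self']
      exact (show ∀ d q : ZMod 3, d ≠ 0 → (-d * (2 * q) = 1 ↔ q = d) by decide) c _ hc
  set V : G → Fin (n + 1) → ZMod 3 := fun a => Fin.snoc (Θ a).1 (Θ a).2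
  have hV : ∀ a, split n (V a) = Θ a := fun a => split_snoc _ _
  have hnorm : ∀ a ∈ D, Q' (V a) = c := fun a ha => (key _).1 (by rw [hV]; exact P.norm a ha)
  let f : ↥D → ↥(refl3 Q' c) := fun a => ⟨pt (hnorm a a.2), pt_mem _⟩
  have hf : Function.Bijective f := by
    refine ⟨fun a b h => ?_, fun x => ?_⟩
    · have h' := (pt_eq_iff hQ' hc hn' _ _).1 (congrArg Subtype.val h)
      refine Subtype.ext (P.inj a a.2 b b.2 ?_)
      rw [← hV a, ← hV b]
      rcases h' with q | q
      · exact Or.inl (by rw [q])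
      · exact Or.inr (by rw [q, map_neg, neg_neg])
    · obtain ⟨w, hw, hwx⟩ := exists_pt x.2
      obtain ⟨a, ha, h⟩ := P.surj (split n w) ((key w).2 hw)
      refine ⟨⟨a, ha⟩, Subtype.ext ?_⟩
      rw [← hwx]
      refine (pt_eq_iff hQ' hc hn' _ _).2 ?_
      rcases h with h | h
      · exact Or.inl (split_injective (by rw [hV, h]))
      · exact Or.inr (split_injective (by rw [map_neg, hV, h, neg_neg]))
  let φ := Equiv.ofBijective f hf
  have hφ : ∀ a b : ↥D, Commute (φ a : PGrp Q' c) (φ b) ↔ Commute (a : G) b := by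
    intro a b
    by_cases hab : a = b
    · subst hab; exact iff_of_true (Commute.refl _) (Commute.refl _)
    show Commute (pt (hnorm a a.2)) (pt (hnorm b b.2)) ↔ _
    rw [commute_pt hQ' hc hn', P.comm a a.2 b b.2 (fun q => hab (Subtype.ext q))]
    have e : ext (bil Q c) (Θ a) (Θ b) = 0 ↔ polar Q' (V a) (V b) = 0 := by
      rw [← hV a, ← hV b, ext_bil hc, mul_eq_zero, or_iff_right (neg_ne_zero.2 hc)]
    rw [e]
    refine ⟨fun h => h.resolve_right fun q => hab ?_, Or.inl⟩
    exact hf.1 (Subtype.ext ((pt_eq_iff hQ' hc hn' _ _).2 q))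
  have hfix : ∀ {K : Type} [Group K] (S : Set K), Subgroup.closure S = ⊤ →
      Subgroup.center K = ⊥ → ∀ g : K, (∀ s ∈ S, cj g s = s) → g = 1 := by
    intro K _ S hS hZ g hg
    rw [← Subgroup.mem_bot, ← hZ]
    have hle : Subgroup.closure S ≤ Subgroup.centralizer {g} := by
      rw [Subgroup.closure_le]
      intro s hs
      rw [SetLike.mem_coe, Subgroup.mem_centralizer_singleton_iff]
      exact (H80.TTQuad.commute_of_cj_eq (hg s hs)).symm.eq
    rw [hS] at hle
    exact Subgroup.mem_center_iff.2 fun k =>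
      Subgroup.mem_centralizer_singleton_iff.1 (hle (Subgroup.mem_top k))
  have hfixG : ∀ g : G, (∀ s ∈ D, cj g s = s) → g = 1 := by
    intro g hg
    have hZ : Subgroup.center G = ⊥ := H.sol _ inferInstance (by
      open scoped IsMulCommutative in infer_instance)
    rw [← Subgroup.mem_bot, ← hZ]
    have hle : Subgroup.closure D ≤ Subgroup.centralizer {g} := by
      rw [Subgroup.closure_le]
      intro s hs
      rw [SetLike.mem_coe, Subgroup.mem_centralizer_singleton_iff]
      exact (H80.TTQuad.commute_of_cj_eq (hg s hs)).symm.eq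
    rw [H.cl.2.2] at hle
    exact Subgroup.mem_center_iff.2 fun k =>
      Subgroup.mem_centralizer_singleton_iff.1 (hle (Subgroup.mem_top k))
  have H' := cls_refl3 hQ' hc hn'
  exact H7Fischer.isoTo_of_equivariant H.cl.2.2 H'.cl.2.2 hfixG
    (hfix _ H'.cl.2.2 (center_eq_bot hQ' hc hn')) (fun a ha => H.sq ha) (fun a ha => H'.sq ha)
    (fun a _ b hb => H.mem_cj a hb) φ
    (H7Thick.graph_equivariant H H' (hypUnique_refl3 hQ' hc hn') φ hφ)

end Cfsg.Agent.H97.Refl3
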